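import Groth.Agent.H70.A63.ArtFinite
import Groth.Prelude.Def_ArtFun2

set_option autoImplicit false
set_option linter.style.haveILetI false
universe u v
open CategoryTheory

namespace Groth.Agent.H70.A63

open ArtFun ArtFun.Art

variable {Λ : Type u} {k : Type u} [CommRing Λ] [Field k] [Algebra Λ k]

section
variable {B A A₁ A₂ : Art Λ k} {p₁ : B ⟶ A₁} {p₂ : B ⟶ A₂} {f₁ : A₁ ⟶ A} {f₂ : A₂ ⟶ A}

theorem IsFibreProd.fst_surjective (h : IsFibreProd p₁ p₂ f₁ f₂) (hf₂ : Function.Surjective f₂) :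
    Function.Surjective p₁ := by
  intro a₁
  obtain ⟨a₂, ha₂⟩ := hf₂ (f₁ a₁)
  obtain ⟨b, hb, -⟩ := h.surj a₁ a₂ ha₂.symm
  exact ⟨b, hb⟩

theorem IsFibreProd.flip (h : IsFibreProd p₁ p₂ f₁ f₂) : IsFibreProd p₂ p₁ f₂ f₁ where
  w := h.w.symm
  inj b₁ b₂ h₁ h₂ := h.inj b₁ b₂ h₂ h₁
  surj a' a'' e := by
    obtain ⟨b, hb₁, hb₂⟩ := h.surj a'' a' e.symm
    exact ⟨b, hb₂, hb₁⟩

/-- The universal property of a pinned fibre product. -/
theorem IsFibreProd.exists_lift (h : IsFibreProd p₁ p₂ f₁ f₂) {C : Art Λ k} (g₁ : C ⟶ A₁) (g₂ : C ⟶ A₂)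
    (hg : g₁ ≫ f₁ = g₂ ≫ f₂) : ∃ l : C ⟶ B, l ≫ p₁ = g₁ ∧ l ≫ p₂ = g₂ := by
  classical
  have hg' : ∀ c : C, f₁ (g₁ c) = f₂ (g₂ c) := fun c => congrArg (fun t : C ⟶ A => t c) hg
  let l : C → B := fun c => (h.surj (g₁ c) (g₂ c) (hg' c)).choose
  have hl₁ : ∀ c, p₁ (l c) = g₁ c := fun c => (h.surj (g₁ c) (g₂ c) (hg' c)).choose_spec.1
  have hl₂ : ∀ c, p₂ (l c) = g₂ c := fun c => (h.surj (g₁ c) (g₂ c) (hg' c)).choose_spec.2
  let L : C →ₐ[Λ] B :=
    { toFun := l
      map_one' := h.inj _ _ (by rw [hl₁, map_one, map_one]) (by rw [hl₂, map_one, map_one])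
      map_mul' := fun x y => h.inj _ _ (by rw [hl₁, map_mul, map_mul, hl₁, hl₁])
        (by rw [hl₂, map_mul, map_mul, hl₂, hl₂])
      map_zero' := h.inj _ _ (by rw [hl₁, map_zero, map_zero]) (by rw [hl₂, map_zero, map_zero])
      map_add' := fun x y => h.inj _ _ (by rw [hl₁, map_add, map_add, hl₁, hl₁])
        (by rw [hl₂, map_add, map_add, hl₂, hl₂])
      commutes' := fun r => h.inj _ _ (by rw [hl₁, AlgHom.commutes, AlgHom.commutes])
        (by rw [hl₂, AlgHom.commutes, AlgHom.commutes]) }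
  refine ⟨⟨L, ?_⟩, ?_, ?_⟩
  · apply AlgHom.ext
    intro c
    change B.res (l c) = C.res c
    rw [← res_app p₁, hl₁, res_app]
  · apply hom_ext; apply AlgHom.ext; intro c; exact hl₁ c
  · apply hom_ext; apply AlgHom.ext; intro c; exact hl₂ c

theorem IsFibreProd.hom_ext (h : IsFibreProd p₁ p₂ f₁ f₂) {C : Art Λ k} (l l' : C ⟶ B)
    (h₁ : l ≫ p₁ = l' ≫ p₁) (h₂ : l ≫ p₂ = l' ≫ p₂) : l = l' := by
  apply Art.hom_ext; apply AlgHom.ext; intro c
  exact h.inj _ _ (congrArg (fun t : C ⟶ A₁ => t c) h₁) (congrArg (fun t : C ⟶ A₂ => t c) h₂)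

/-- base change of a small extension is small -/
theorem IsFibreProd.fst_isSmallExt (h : IsFibreProd p₁ p₂ f₁ f₂) (hf₂ : IsSmallExt f₂) :
    IsSmallExt p₁ := by
  obtain ⟨hsurj, hne, hprin, hm⟩ := hf₂
  obtain ⟨t, ht⟩ := hprin.principal
  have ht' : RingHom.ker f₂.toAlgHom = Ideal.span {t} := ht
  have htker : f₂ t = 0 := by
    have : t ∈ RingHom.ker f₂.toAlgHom := by rw [ht']; exact Ideal.subset_span rfl
    exact RingHom.mem_ker.1 this
  have htne : t ≠ 0 := by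
    intro h0
    apply hne
    rw [ht', h0, Ideal.span_singleton_eq_bot]
  have hmt : ∀ a ∈ IsLocalRing.maximalIdeal A₂, a * t = 0 := by
    intro a ha
    have : a * t ∈ IsLocalRing.maximalIdeal A₂ * RingHom.ker f₂.toAlgHom :=
      Ideal.mul_mem_mul ha (by rw [ht']; exact Ideal.subset_span rfl)
    rwa [hm, Ideal.mem_bot] at this
  obtain ⟨bt, hbt₁, hbt₂⟩ := h.surj 0 t (by rw [map_zero, htker])
  have hker : RingHom.ker p₁.toAlgHom = Ideal.span {bt} := by
    apply le_antisymm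
    · intro b hb
      rw [RingHom.mem_ker] at hb
      have hb' : p₁ b = 0 := hb
      have h2 : p₂ b ∈ RingHom.ker f₂.toAlgHom := by
        rw [RingHom.mem_ker]
        have := h.w_apply b
        rw [hb', map_zero] at this
        exact this.symm
      rw [ht'] at h2
      obtain ⟨c, hc⟩ := Ideal.mem_span_singleton'.1 h2
      obtain ⟨c', hc'⟩ := B.res_surjective (A₂.res c)
      have hcc : p₂ c' - c ∈ IsLocalRing.maximalIdeal A₂ := by
        rw [mem_maximalIdeal_iff, map_sub, res_app, hc', sub_self]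
      have h3 : (p₂ c' - c) * t = 0 := hmt _ hcc
      have h4 : p₂ c' * t = c * t := by
        rw [sub_mul, sub_eq_zero] at h3; exact h3
      have : b = c' * bt := by
        apply h.inj
        · rw [hb', map_mul, hbt₁, mul_zero]
        · rw [map_mul, hbt₂, h4, hc]
      rw [this]
      exact Ideal.mul_mem_left _ _ (Ideal.subset_span rfl)
    · rw [Ideal.span_le, Set.singleton_subset_iff]
      exact RingHom.mem_ker.2 hbt₁
  refine ⟨IsFibreProd.fst_surjective h hsurj, ?_, ?_, ?_⟩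
  · rw [hker]
    intro h0
    rw [Ideal.span_singleton_eq_bot] at h0
    rw [h0, map_zero] at hbt₂
    exact htne hbt₂.symm
  · rw [hker]; exact ⟨⟨_, rfl⟩⟩
  · rw [hker, eq_bot_iff, Ideal.mul_le]
    intro a ha z hz
    obtain ⟨c, rfl⟩ := Ideal.mem_span_singleton'.1 hz
    rw [Ideal.mem_bot]
    apply h.inj
    · rw [map_mul, map_mul, hbt₁, mul_zero, mul_zero, map_zero]
    · rw [map_mul, map_mul, hbt₂, map_zero]
      have := hmt _ (map_mem_maximalIdeal p₂ ha)
      calc p₂ a * (p₂ c * t) = p₂ c * (p₂ a * t) := by ring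
        _ = 0 := by rw [this, mul_zero]

end

end Groth.Agent.H70.A63
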