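import Mathlib.RingTheory.LocalRing.Length
import Mathlib.RingTheory.Length
import Mathlib.RingTheory.FiniteLength
import Mathlib.RingTheory.LocalRing.MaximalIdeal.Basic

set_option autoImplicit false
universe u v

namespace Groth.Agent.H70.A63

open IsLocalRing LinearMap Module Submodule

section
variable {Λ : Type*} {k : Type*} [CommRing Λ] [Field k] [Algebra Λ k]
  {A : Type*} [CommRing A] [Algebra Λ A] [IsLocalRing A] [Algebra A k] [IsScalarTower Λ A k]
  {M : Type*} [AddCommGroup M] [Module A M] [Module Λ M] [IsScalarTower Λ A M]

/-- `A/m ≃ k` as `A`-modules when `A → k` is surjective. -/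
noncomputable def quotMaxEquiv (hres : Function.Surjective (algebraMap A k)) :
    (A ⧸ maximalIdeal A) ≃ₗ[A] k := by
  have hker : LinearMap.ker (Algebra.linearMap A k) = maximalIdeal A := by
    have hmax : (RingHom.ker (algebraMap A k)).IsMaximal :=
      RingHom.ker_isMaximal_of_surjective (algebraMap A k) hres
    rw [← eq_maximalIdeal hmax]
    rfl
  exact (Submodule.quotEquivOfEq _ _ hker.symm).trans
    (LinearMap.quotKerEquivOfSurjective (Algebra.linearMap A k) hres)

theorem covBy_length_restrict (hres : Function.Surjective (algebraMap A k))
    {p q : Submodule A M} (h : p ⋖ q) :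
    Module.length Λ q = Module.length Λ p + Module.length Λ k := by
  let f : p →ₗ[A] q := inclusion h.le
  have key : IsSimpleModule A (q ⧸ LinearMap.range f) := by
    rwa [range_inclusion, ← covBy_iff_quot_is_simple h.le]
  obtain ⟨m, hm, ⟨e⟩⟩ := isSimpleModule_iff_quot_maximal.mp key
  rw [eq_maximalIdeal hm] at e
  let e' : (q ⧸ LinearMap.range f) ≃ₗ[A] k := e.trans (quotMaxEquiv hres)
  let g : q →ₗ[A] k := e'.toLinearMap.comp (LinearMap.range f).mkQ
  have h1 : Function.Injective f := inclusion_injective _
  have h2 : Function.Surjective g := e'.surjective.comp (LinearMap.range f).mkQ_surjective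
  have h3 : Function.Exact f g :=
    exact_iff.mpr ((e'.ker_comp (LinearMap.range f).mkQ).trans (LinearMap.range f).ker_mkQ)
  exact length_eq_add_of_exact (f.restrictScalars Λ) (g.restrictScalars Λ)
    (by simpa using h1) (by simpa using h2) (by simpa using h3)

variable (Λ k A M) in
/-- the length formula -/
theorem length_restrict (hres : Function.Surjective (algebraMap A k)) :
    Module.length Λ k * Module.length A M = Module.length Λ M := by
  by_cases h : IsFiniteLength A M
  · obtain ⟨s, hs_bot, hs_top⟩ := isFiniteLength_iff_exists_compositionSeries.mp h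
    rw [← length_compositionSeries s hs_bot hs_top]
    suffices ∀ i, Module.length Λ (s i) = i * Module.length Λ k by
      have h1 := this (Fin.last s.length)
      rw [← RelSeries.last, hs_top] at h1
      have h2 : Module.length Λ (⊤ : Submodule A M) = Module.length Λ M :=
        (LinearEquiv.length_eq ((Submodule.topEquiv (R := A) (M := M)).restrictScalars Λ))
      rw [← h2, h1, Fin.val_last, mul_comm]
    intro i
    induction i using Fin.induction with
    | zero =>
      rw [← RelSeries.head, hs_bot]
      simp only [Fin.val_zero, Nat.cast_zero, zero_mul]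
      rw [Module.length_eq_zero_iff]
      infer_instance
    | succ i hi =>
      have := covBy_length_restrict (Λ := Λ) hres (s.step i)
      rw [this, hi]
      simp [add_one_mul]
  · have hΛ : ¬ IsFiniteLength Λ M := by
      contrapose! h
      rw [isFiniteLength_iff_isNoetherian_isArtinian] at h ⊢
      exact h.imp (isNoetherian_of_tower Λ) (isArtinian_of_tower Λ)
    rw [← length_ne_top_iff, not_ne_iff] at h hΛ
    have ne : Module.length Λ k ≠ 0 := by
      simpa [pos_iff_ne_zero] using (Module.length_pos (R := Λ) (M := k))
    rw [h, hΛ, ENat.mul_top ne]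

end

end Groth.Agent.H70.A63
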