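import Groth.Agent.H70.A63.ArtBasic
import Groth.Agent.H70.A63.Length
import Mathlib.RingTheory.LocalRing.Pullback
import Mathlib.RingTheory.Ideal.GoingUp
import Mathlib.RingTheory.Artinian.Module

set_option autoImplicit false
set_option linter.style.haveILetI false
universe u v
open CategoryTheory

namespace Groth.Agent.H70.A63

open ArtFun ArtFun.Art

section Field

variable {Λ : Type*} {k : Type*} [CommRing Λ] [Field k] [Algebra Λ k] [Module.Finite Λ k]

/-- `k` has finite length as a `Λ`-module. -/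
theorem length_base_ne_top : Module.length Λ k ≠ ⊤ := by
  haveI : Algebra.IsIntegral Λ k := Algebra.IsIntegral.of_finite Λ k
  haveI hmax : (RingHom.ker (algebraMap Λ k)).IsMaximal := by
    have := Ideal.isMaximal_comap_of_isIntegral_of_isMaximal (R := Λ) (S := k) (⊥ : Ideal k)
    exact this
  let I := RingHom.ker (algebraMap Λ k)
  letI : Field (Λ ⧸ I) := Ideal.Quotient.field I
  letI : Algebra (Λ ⧸ I) k := (RingHom.kerLift (algebraMap Λ k)).toAlgebra
  haveI : IsScalarTower Λ (Λ ⧸ I) k := IsScalarTower.of_algebraMap_eq (fun x => rfl)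
  haveI : Module.Finite (Λ ⧸ I) k := Module.Finite.of_restrictScalars_finite Λ (Λ ⧸ I) k
  rw [Module.length_eq_of_surjective (S := Λ) (R := Λ ⧸ I) (M := k) Ideal.Quotient.mk_surjective,
    Module.length_eq_finrank]
  exact ENat.natCast_ne_top _

end Field

variable {Λ : Type u} {k : Type u} [CommRing Λ] [Field k] [Algebra Λ k]

/-- The length formula applied to an object. -/
theorem length_obj [Module.Finite Λ k] (A : Art Λ k) : Module.length Λ A ≠ ⊤ := by
  letI : Algebra A k := A.res.toRingHom.toAlgebra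
  haveI : IsScalarTower Λ A k := IsScalarTower.of_algebraMap_eq (fun x => (A.res.commutes x).symm)
  have h := length_restrict Λ k A A A.res_surjective
  rw [← h]
  exact WithTop.mul_ne_top length_base_ne_top Module.length_ne_top

theorem isFiniteLength_obj [Module.Finite Λ k] (A : Art Λ k) : IsFiniteLength Λ A :=
  Module.length_ne_top_iff.1 (length_obj A)

theorem isArtinian_obj [Module.Finite Λ k] (A : Art Λ k) : IsArtinian Λ A :=
  (isFiniteLength_iff_isNoetherian_isArtinian.1 (isFiniteLength_obj A)).2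

theorem isNoetherian_obj [Module.Finite Λ k] (A : Art Λ k) : IsNoetherian Λ A :=
  (isFiniteLength_iff_isNoetherian_isArtinian.1 (isFiniteLength_obj A)).1

/-- A `Λ`-subalgebra of a product of two objects is an Artinian ring. -/
theorem isArtinianRing_subalgebra_prod [Module.Finite Λ k] (A₁ A₂ : Art Λ k)
    (S : Subalgebra Λ (A₁ × A₂)) : IsArtinianRing S := by
  haveI := isArtinian_obj A₁
  haveI := isArtinian_obj A₂
  haveI : IsArtinian Λ (A₁ × A₂) := inferInstance
  haveI : IsArtinian Λ S := isArtinian_of_injective (Subalgebra.toSubmodule S).subtype Subtype.val_injective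
  exact isArtinian_of_tower Λ (S := S) (M := S) inferInstance

/-- The fibre product object when the pullback surjects on `k`. -/
theorem exists_isFibreProd_of_res_surjective [Module.Finite Λ k] {A A₁ A₂ : Art Λ k} (f₁ : A₁ ⟶ A) (f₂ : A₂ ⟶ A)
    (hsurj : Function.Surjective (A₁.res.comp (AlgHom.pullbackFst f₁.toAlgHom f₂.toAlgHom))) :
    ∃ (B : Art Λ k) (p₁ : B ⟶ A₁) (p₂ : B ⟶ A₂), IsFibreProd p₁ p₂ f₁ f₂ := by
  let S := AlgHom.pullback f₁.toAlgHom f₂.toAlgHom
  haveI : IsLocalHom f₂.toAlgHom := Art.isLocalHom f₂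
  haveI : IsLocalRing S := AlgHom.isLocalRing_pullback f₁.toAlgHom f₂.toAlgHom
  haveI : IsArtinianRing S := isArtinianRing_subalgebra_prod A₁ A₂ S
  let B : Art Λ k := Art.of S (A₁.res.comp (AlgHom.pullbackFst f₁.toAlgHom f₂.toAlgHom)) hsurj
  have hres : ∀ s : S, A₁.res s.1.1 = A₂.res s.1.2 := by
    intro s
    have h1 := res_app f₁ s.1.1
    have h2 := res_app f₂ s.1.2
    have h3 : f₁ s.1.1 = f₂ s.1.2 := s.2
    rw [← h1, ← h2, h3]
  let p₁ : B ⟶ A₁ := ⟨AlgHom.pullbackFst f₁.toAlgHom f₂.toAlgHom, rfl⟩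
  let p₂ : B ⟶ A₂ := ⟨AlgHom.pullbackSnd f₁.toAlgHom f₂.toAlgHom, AlgHom.ext fun s => (hres s).symm⟩
  refine ⟨B, p₁, p₂, ?_, ?_, ?_⟩
  · apply hom_ext
    exact AlgHom.pullback_comm_sq f₁.toAlgHom f₂.toAlgHom
  · intro b₁ b₂ h1 h2
    exact Subtype.ext (Prod.ext h1 h2)
  · intro a' a'' h
    exact ⟨⟨(a', a''), h⟩, rfl, rfl⟩

/-- Existence of fibre products along a surjection. -/
theorem exists_isFibreProd_of_surjective [Module.Finite Λ k] {A A₁ A₂ : Art Λ k} (f₁ : A₁ ⟶ A) (f₂ : A₂ ⟶ A)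
    (hf₂ : Function.Surjective f₂) :
    ∃ (B : Art Λ k) (p₁ : B ⟶ A₁) (p₂ : B ⟶ A₂), IsFibreProd p₁ p₂ f₁ f₂ := by
  apply exists_isFibreProd_of_res_surjective
  exact A₁.res_surjective.comp (AlgHom.surjective_pullbackFst_of_surjective f₁.toAlgHom f₂.toAlgHom hf₂)

end Groth.Agent.H70.A63
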