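import Groth.Agent.H70.A63.ArtFunctor
import Groth.Prelude.Def_ArtFun5
import Mathlib.RingTheory.AdicCompletion.RingHom

set_option autoImplicit false
set_option linter.style.haveILetI false
universe u v
open CategoryTheory

namespace Groth.Agent.H70.A63

open ArtFun ArtFun.Art

variable {Λ : Type u} {k : Type u} [CommRing Λ] [Field k] [Algebra Λ k]

theorem truncMap_mk (R : CRing Λ k) (n : ℕ) (a : R.carrier) :
    R.truncMap n (Ideal.Quotient.mk (CRing.mpow R (n + 1)) a) = Ideal.Quotient.mk (CRing.mpow R n) a := rfl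

theorem truncMap_surjective (R : CRing Λ k) (n : ℕ) : Function.Surjective (R.truncMap n) := by
  intro x
  obtain ⟨a, rfl⟩ := Ideal.Quotient.mk_surjective x
  exact ⟨Ideal.Quotient.mk _ a, rfl⟩

theorem app_surjective_of_isSmooth {F G : Art Λ k ⥤ Type v} (η : F ⟶ G) (hη : IsSmooth η)
    (h0 : Function.Surjective (η.app (Art.base Λ k))) (A : Art Λ k) :
    Function.Surjective (η.app A) := by
  intro y
  obtain ⟨x0, hx0⟩ := h0 (G.map (Art.toBase A) y)
  obtain ⟨w, hw⟩ := hη (Art.toBase A) A.res_surjective ⟨(x0, y), hx0⟩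
  exact ⟨w, congrArg (fun t => t.1.2) hw⟩

theorem formalElt_map_surjective {F G : Art Λ k ⥤ Type v} (η : F ⟶ G) (hη : IsSmooth η)
    (h0 : Function.Surjective (η.app (Art.base Λ k))) (R : CRing Λ k) :
    Function.Surjective (fun u : FormalElt F R => u.map η) := by
  classical
  intro v
  let X : ℕ → Type v := fun n => {x : F.obj (R.trunc n) // η.app _ x = v.elt n}
  have hstep : ∀ n (x : X n), ∃ y : X (n + 1), F.map (R.truncMap n) y.1 = x.1 := by
    intro n x
    have hx : η.app _ x.1 = G.map (R.truncMap n) (v.elt (n + 1)) := by rw [x.2, v.compat]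
    obtain ⟨z, hz1, hz2⟩ := (relCmp_surjective_iff η (R.truncMap n)).1 (hη _ (truncMap_surjective R n)) x.1 _ hx
    exact ⟨⟨z, hz2⟩, hz1⟩
  obtain ⟨x0, hx0⟩ := app_surjective_of_isSmooth η hη h0 (R.trunc 0) (v.elt 0)
  let u : ∀ n, X n := fun n => Nat.rec (motive := X) ⟨x0, hx0⟩ (fun n x => (hstep n x).choose) n
  have hu : ∀ n, F.map (R.truncMap n) (u (n + 1)).1 = (u n).1 := fun n => (hstep n (u n)).choose_spec
  refine ⟨⟨fun n => (u n).1, hu⟩, ?_⟩
  apply FormalElt.ext'
  intro n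
  exact (u n).2


/-- A compatible system of maps to the truncations of a coefficient ring lifts to the ring. -/
theorem exists_lift_of_compat {R : Type u} [CommRing R] [Algebra Λ R] {resR : R →ₐ[Λ] k} (S : CRing Λ k)
    (ψ : ∀ n, HomSet R resR (S.trunc n))
    (hψ : ∀ n, HomSet.map (S.truncMap n) (ψ (n + 1)) = ψ n) :
    ∃ (g : R →ₐ[Λ] S.carrier) (hg : S.res.comp g = resR),
      ∀ n, (⟨(S.truncHom n).1.comp g, by rw [← AlgHom.comp_assoc, (S.truncHom n).2, hg]⟩ : HomSet R resR (S.trunc n)) = ψ n := by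
  haveI := S.isAdicComplete
  let I := IsLocalRing.maximalIdeal S.carrier
  have ha : StrictMono (fun n : ℕ => n + 1) := fun a b h => Nat.succ_lt_succ h
  let f : ∀ n : ℕ, R →+* S.carrier ⧸ I ^ (n + 1) := fun n => ((ψ n).1 : R →+* (S.trunc n))
  have hf : ∀ {m : ℕ}, (Ideal.Quotient.factorPow I (ha.monotone m.le_succ)).comp (f (m + 1)) = f m := by
    intro m
    ext x
    have h1 : S.truncMap m ((ψ (m + 1)).1 x) = (ψ m).1 x :=
      congrArg (fun t : HomSet R resR (S.trunc m) => t.1 x) (hψ m)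
    change _ = (ψ m).1 x
    rw [← h1]
    change (Ideal.Quotient.factorPow I (ha.monotone m.le_succ)) ((ψ (m + 1)).1 x) = _
    obtain ⟨a, ha'⟩ := Ideal.Quotient.mk_surjective (I := CRing.mpow S (m + 1)) ((ψ (m + 1)).1 x)
    rw [← ha']
    rfl
  let g0 : R →+* S.carrier := IsAdicComplete.StrictMono.liftRingHom I ha f hf
  have hg0 : ∀ n x, Ideal.Quotient.mk (I ^ (n + 1)) (g0 x) = (ψ n).1 x := fun n x =>
    IsAdicComplete.StrictMono.mk_liftRingHom I ha f hf x
  have hcomm : ∀ r : Λ, g0 (algebraMap Λ R r) = algebraMap Λ S.carrier r := by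
    have := IsHausdorff.StrictMono.funext' I ha (f := fun r : Λ => g0 (algebraMap Λ R r))
      (g := fun r : Λ => algebraMap Λ S.carrier r) (fun n r => by
        rw [hg0, AlgHom.commutes]
        rfl)
    exact fun r => congrFun this r
  let g : R →ₐ[Λ] S.carrier := { g0 with commutes' := hcomm }
  have hgx : ∀ n x, Ideal.Quotient.mk (I ^ (n + 1)) (g x) = (ψ n).1 x := hg0
  have hg : S.res.comp g = resR := by
    apply AlgHom.ext
    intro x
    have h1 : (S.trunc 0).res ((ψ 0).1 x) = resR x := congrArg (fun t : R →ₐ[Λ] k => t x) (ψ 0).2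
    rw [← h1, ← hgx 0 x]
    rfl
  refine ⟨g, hg, fun n => ?_⟩
  apply Subtype.ext
  apply AlgHom.ext
  intro x
  exact hgx n x

end Groth.Agent.H70.A63

namespace Groth.Agent.H70.A63

open ArtFun ArtFun.Art

variable {Λ : Type u} {k : Type u} [CommRing Λ] [Field k] [Algebra Λ k]

/-- every formal element is induced from a versal family -/
theorem exists_along_of_isVersal {F : Art Λ k ⥤ Type v} (h0 : H0 F)
    (R : CRing Λ k) (ξ : Family R.carrier R.res F) (hξ : IsVersal ξ)
    (S : CRing Λ k) (η : FormalElt F S) :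
    ∃ (g : R.carrier →ₐ[Λ] S.carrier) (hg : S.res.comp g = R.res), (ξ.along g hg).toFormalElt = η := by
  classical
  haveI := h0.2
  let X : ℕ → Type u := fun n => {ψ : HomSet R.carrier R.res (S.trunc n) // ξ.app _ ψ = η.elt n}
  have hstep : ∀ n (x : X n), ∃ y : X (n + 1), HomSet.map (S.truncMap n) y.1 = x.1 := by
    intro n x
    obtain ⟨ψ, h1, h2⟩ := hξ (S.truncMap n) (truncMap_surjective S n) x.1 (η.elt (n + 1))
      (by rw [η.compat, x.2])
    exact ⟨⟨ψ, h2⟩, h1⟩
  have hx0 : ∃ ψ : HomSet R.carrier R.res (S.trunc 0), ξ.app _ ψ = η.elt 0 := by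
    let φ : HomSet R.carrier R.res (Art.base Λ k) := ⟨R.res, AlgHom.id_comp _⟩
    obtain ⟨ψ, -, h2⟩ := hξ (Art.toBase (S.trunc 0)) (S.trunc 0).res_surjective φ (η.elt 0)
      (Subsingleton.elim _ _)
    exact ⟨ψ, h2⟩
  obtain ⟨x0, hx0⟩ := hx0
  let u : ∀ n, X n := fun n => Nat.rec (motive := X) ⟨x0, hx0⟩ (fun n x => (hstep n x).choose) n
  have hu : ∀ n, HomSet.map (S.truncMap n) (u (n + 1)).1 = (u n).1 := fun n => (hstep n (u n)).choose_spec
  obtain ⟨g, hg, hgψ⟩ := exists_lift_of_compat S (fun n => (u n).1) hu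
  refine ⟨g, hg, ?_⟩
  apply FormalElt.ext'
  intro n
  change ξ.app _ _ = η.elt n
  rw [← (u n).2]
  congr 1
  exact hgψ n

end Groth.Agent.H70.A63
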